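/-
Package C3 of the symmetric S3-amalgam lemma (helper71's project):
`C ∩ C^x = 1` and `|C| ≤ 2` for `C = C_Z(H)`.
-/
import Cfsg.Agent.Lib.Helper71.Sym.Words

set_option autoImplicit false

namespace Cfsg.Agent.Lib.Helper96.Sym

open Cfsg.Agent.Lib.Helper71.Sym

universe u

theorem pkgC3 : PkgC3.{u} := by
  intro G _ _ H T Q x hA hZF w hL
  have hCZ : ∀ a ∈ Cs H T, a ∈ Zs H T := fun a ha => ha.1
  have hCH : ∀ a ∈ Cs H T, ∀ h ∈ H, h * a = a * h := fun a ha h hh =>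
    Subgroup.mem_centralizer_iff.mp ha.2 h hh
  have hCT : ∀ a ∈ Cs H T, a ∈ T := fun a ha => hA.hQT (hZF.le_Q (hCZ a ha))
  have hx2H : x * x ∈ H := hA.x2H
  -- the intersection
  have hinter : Cs H T ⊓ cj x (Cs H T) = ⊥ := by
    refine hA.hcore _ (fun n hn => hCT n hn.1) ?_ ?_
    · intro h hh n hn
      have h1 := hCH n hn.1 h hh
      have e : h * n * h⁻¹ = n := by rw [h1]; group
      rw [e]; exact hn
    · intro n hn
      refine ⟨?_, conj_mem_cj hn.1⟩
      have h1 : x⁻¹ * n * x ∈ Cs H T := mem_cj.mp hn.2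
      have h2 := hCH _ h1 (x * x) hx2H
      have e : x * n * x⁻¹ = x⁻¹ * n * x := by
        calc x * n * x⁻¹ = (x * x) * (x⁻¹ * n * x) * (x * x)⁻¹ := by group
          _ = (x⁻¹ * n * x) * (x * x) * (x * x)⁻¹ := by rw [h2]
          _ = x⁻¹ * n * x := by group
      rw [e]; exact h1
  refine ⟨hinter, ?_⟩
  obtain ⟨t₀, ht₀T, ht₀Q⟩ := hZF.exists_TQ
  have hw2 : w * w = 1 := hZF.sq w hL.w_mem
  -- nontrivial elements of `C`
  have key : ∀ a ∈ Cs H T, a ≠ 1 → x * a * x⁻¹ * w ∈ Cs H T := by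
    intro a ha ha1
    have haT : a ∈ T := hCT a ha
    have hvT : x * a * x⁻¹ ∈ T := hA.hxT a haT
    have hv2 : x * a * x⁻¹ * (x * a * x⁻¹) = 1 := by
      have := hZF.sq a (hCZ a ha)
      calc x * a * x⁻¹ * (x * a * x⁻¹) = x * (a * a) * x⁻¹ := by group
        _ = 1 := by rw [this]; group
    have hvc : ∀ t ∈ T, x * a * x⁻¹ * t = t * (x * a * x⁻¹) := by
      intro t ht
      have h1 := hCH a ha (x⁻¹ * t * x) (hA.hTH (hA.xinv_mem ht))
      calc x * a * x⁻¹ * t = x * (a * (x⁻¹ * t * x)) * x⁻¹ := by group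
        _ = x * ((x⁻¹ * t * x) * a) * x⁻¹ := by rw [h1]
        _ = t * (x * a * x⁻¹) := by group
    have hvZ : x * a * x⁻¹ ∈ Zs H T := hZF.gen _ hvT hv2 hvc
    rcases hL.fix_T t₀ ht₀T ht₀Q _ hvZ (hvc t₀ ht₀T).symm with h | h
    · exfalso
      have hmem : x * a * x⁻¹ ∈ Cs H T ⊓ cj x (Cs H T) := ⟨h, conj_mem_cj ha⟩
      rw [hinter, Subgroup.mem_bot] at hmem
      apply ha1
      calc a = x⁻¹ * (x * a * x⁻¹) * x := by group
        _ = 1 := by rw [hmem]; group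
    · exact h
  by_cases hbot : ∀ a ∈ Cs H T, a = 1
  · have : Cs H T = ⊥ := (Subgroup.eq_bot_iff_forall _).mpr hbot
    rw [this]
    simp
  · push Not at hbot
    obtain ⟨a₁, ha₁, ha₁1⟩ := hbot
    have hsub : ((Cs H T : Subgroup G) : Set G) ⊆ ({1, a₁} : Set G) := by
      intro a ha
      by_cases ha1 : a = 1
      · exact Or.inl ha1
      · right
        show a = a₁
        have h1 := key a ha ha1
        have h2 := key a₁ ha₁ ha₁1
        have h3 : x * (a * a₁⁻¹) * x⁻¹ ∈ Cs H T := by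
          have := (Cs H T).mul_mem h1 ((Cs H T).inv_mem h2)
          have e : x * a * x⁻¹ * w * (x * a₁ * x⁻¹ * w)⁻¹ = x * (a * a₁⁻¹) * x⁻¹ := by group
          rw [e] at this
          exact this
        have hmem : x * (a * a₁⁻¹) * x⁻¹ ∈ Cs H T ⊓ cj x (Cs H T) :=
          ⟨h3, conj_mem_cj ((Cs H T).mul_mem ha ((Cs H T).inv_mem ha₁))⟩
        rw [hinter, Subgroup.mem_bot] at hmem
        have h4 : a * a₁⁻¹ = 1 := by
          calc a * a₁⁻¹ = x⁻¹ * (x * (a * a₁⁻¹) * x⁻¹) * x := by group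
            _ = 1 := by rw [hmem]; group
        exact mul_inv_eq_one.mp h4
    have e1 : Nat.card ↥(Cs H T) = Set.ncard ((Cs H T : Subgroup G) : Set G) :=
      Nat.card_coe_set_eq _
    rw [e1]
    calc Set.ncard ((Cs H T : Subgroup G) : Set G) ≤ Set.ncard ({1, a₁} : Set G) :=
          Set.ncard_le_ncard hsub (Set.toFinite _)
      _ ≤ Set.ncard ({a₁} : Set G) + 1 := Set.ncard_insert_le _ _
      _ = 2 := by rw [Set.ncard_singleton]

end Cfsg.Agent.Lib.Helper96.Sym
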