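/-
Package END of the symmetric S3-amalgam lemma (helper71's project): the case `b = 1`.
-/
import Cfsg.Agent.Lib.Helper71.Sym.Words

set_option autoImplicit false

namespace Cfsg.Agent.Lib.Helper96.Sym

open Cfsg.Agent.Lib.Helper71.Sym

universe u

/-- involutions whose product is an involution commute -/
theorem comm_of_sq_eq_one {G : Type*} [Group G] (a b : G) (ha : a * a = 1) (hb : b * b = 1)
    (hab : (a * b) * (a * b) = 1) : a * b = b * a := by
  have ha' : a⁻¹ = a := inv_eq_of_mul_eq_one_left ha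
  have hb' : b⁻¹ = b := inv_eq_of_mul_eq_one_left hb
  have h3 : (a * b)⁻¹ = a * b := inv_eq_of_mul_eq_one_left hab
  calc a * b = (a * b)⁻¹ := h3.symm
    _ = b⁻¹ * a⁻¹ := mul_inv_rev a b
    _ = b * a := by rw [ha', hb']

theorem pkgEND : PkgEND.{u} := by
  intro G _ _ H T Q x hA hZF w hL hC3 hnot
  obtain ⟨a₀, ha₀Z, ha₀Q'⟩ := SetLike.not_le_iff_exists.mp hnot
  have ha₀Q : a₀ ∈ Q := hZF.le_Q ha₀Z
  have ha₀T : a₀ ∈ T := hA.hQT ha₀Q
  have ha₀sq : a₀ * a₀ = 1 := hZF.sq a₀ ha₀Z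
  have hQ'T : cj x Q ≤ T := by
    intro a ha
    rw [mem_cj] at ha
    have := hA.hxT _ (hA.hQT ha)
    simpa [mul_assoc] using this
  have hmulQ' : ∀ s ∈ T, ∀ t ∈ T, s ∉ cj x Q → t ∉ cj x Q → s * t ∈ cj x Q := by
    intro s hs t ht hs' ht'
    rw [mem_cj] at hs' ht' ⊢
    have := hZF.mul_Q _ (hA.xinv_mem hs) _ (hA.xinv_mem ht) hs' ht'
    simpa [mul_assoc] using this
  obtain ⟨b₀, hb₀⟩ : ∃ b₀ : G, b₀ = x * a₀ * x⁻¹ := ⟨_, rfl⟩
  have hb₀Q' : b₀ ∈ cj x Q := by rw [hb₀]; exact conj_mem_cj ha₀Q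
  have hb₀Q : b₀ ∉ Q := by
    intro h
    apply ha₀Q'
    rw [← hA.cjxinvQ, mem_cj]
    rw [hb₀] at h
    simpa using h
  have hQdec : ∀ q ∈ Q, q ∈ cj x Q ∨ a₀ * q ∈ cj x Q := by
    intro q hq
    by_cases h : q ∈ cj x Q
    · exact Or.inl h
    · exact Or.inr (hmulQ' _ ha₀T _ (hA.hQT hq) ha₀Q' h)
  have hQ'dec : ∀ q ∈ cj x Q, q ∈ Q ∨ b₀ * q ∈ Q := by
    intro q hq
    by_cases h : q ∈ Q
    · exact Or.inl h
    · exact Or.inr (hZF.mul_Q _ (hQ'T hb₀Q') _ (hQ'T hq) hb₀Q h)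
  have hb₀sq : b₀ * b₀ = 1 := by
    rw [hb₀]
    calc x * a₀ * x⁻¹ * (x * a₀ * x⁻¹) = x * (a₀ * a₀) * x⁻¹ := by group
      _ = 1 := by rw [ha₀sq]; group
  have hb₀comm : ∀ q ∈ cj x Q, b₀ * q = q * b₀ := by
    intro q hq
    rw [mem_cj] at hq
    have h1 := hZF.comm_Q a₀ ha₀Z _ hq
    rw [hb₀]
    calc x * a₀ * x⁻¹ * q = x * (a₀ * (x⁻¹ * q * x)) * x⁻¹ := by group
      _ = x * ((x⁻¹ * q * x) * a₀) * x⁻¹ := by rw [h1]
      _ = q * (x * a₀ * x⁻¹) := by group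
  -- the subgroup generated by the squares
  obtain ⟨N, hN⟩ : ∃ N : Subgroup G,
      N = Subgroup.closure {g : G | ∃ d ∈ Q ⊓ cj x Q, g = d * d} := ⟨_, rfl⟩
  have hQsqN : ∀ q ∈ Q, q * q ∈ N := by
    intro q hq
    rw [hN]
    rcases hQdec q hq with h | h
    · exact Subgroup.subset_closure ⟨q, ⟨hq, h⟩, rfl⟩
    · have hc := hZF.comm_Q a₀ ha₀Z q hq
      have : q * q = (a₀ * q) * (a₀ * q) := by
        calc q * q = (a₀ * a₀) * (q * q) := by rw [ha₀sq, one_mul]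
          _ = a₀ * (a₀ * q) * q := by group
          _ = a₀ * (q * a₀) * q := by rw [hc]
          _ = (a₀ * q) * (a₀ * q) := by group
      rw [this]
      exact Subgroup.subset_closure ⟨a₀ * q, ⟨Q.mul_mem ha₀Q hq, h⟩, rfl⟩
  have hQ'sqN : ∀ q ∈ cj x Q, q * q ∈ N := by
    intro q hq
    rw [hN]
    rcases hQ'dec q hq with h | h
    · exact Subgroup.subset_closure ⟨q, ⟨h, hq⟩, rfl⟩
    · have hc := hb₀comm q hq
      have : q * q = (b₀ * q) * (b₀ * q) := by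
        calc q * q = (b₀ * b₀) * (q * q) := by rw [hb₀sq, one_mul]
          _ = b₀ * (b₀ * q) * q := by group
          _ = b₀ * (q * b₀) * q := by rw [hc]
          _ = (b₀ * q) * (b₀ * q) := by group
      rw [this]
      exact Subgroup.subset_closure ⟨b₀ * q, ⟨h, (cj x Q).mul_mem hb₀Q' hq⟩, rfl⟩
  have hNT : N ≤ T := by
    rw [hN, Subgroup.closure_le]
    rintro g ⟨d, hd, rfl⟩
    exact T.mul_mem (hA.hQT hd.1) (hA.hQT hd.1)
  have hNH : ∀ h ∈ H, ∀ n ∈ N, h * n * h⁻¹ ∈ N := by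
    intro h hh n hn
    rw [hN] at hn
    induction hn using Subgroup.closure_induction with
    | mem g hg =>
      obtain ⟨d, hd, rfl⟩ := hg
      have := hQsqN (h * d * h⁻¹) (hA.hQn h hh d hd.1)
      have e : h * (d * d) * h⁻¹ = h * d * h⁻¹ * (h * d * h⁻¹) := by group
      rw [e]; exact this
    | one => simp
    | mul a b _ _ iha ihb =>
      have := N.mul_mem iha ihb
      have e : h * (a * b) * h⁻¹ = h * a * h⁻¹ * (h * b * h⁻¹) := by group
      rw [e]; exact this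
    | inv a _ iha =>
      have := N.inv_mem iha
      have e : h * a⁻¹ * h⁻¹ = (h * a * h⁻¹)⁻¹ := by group
      rw [e]; exact this
  have hNx : ∀ n ∈ N, x * n * x⁻¹ ∈ N := by
    intro n hn
    rw [hN] at hn
    induction hn using Subgroup.closure_induction with
    | mem g hg =>
      obtain ⟨d, hd, rfl⟩ := hg
      have := hQ'sqN (x * d * x⁻¹) (conj_mem_cj hd.1)
      have e : x * (d * d) * x⁻¹ = x * d * x⁻¹ * (x * d * x⁻¹) := by group
      rw [e]; exact this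
    | one => simp
    | mul a b _ _ iha ihb =>
      have := N.mul_mem iha ihb
      have e : x * (a * b) * x⁻¹ = x * a * x⁻¹ * (x * b * x⁻¹) := by group
      rw [e]; exact this
    | inv a _ iha =>
      have := N.inv_mem iha
      have e : x * a⁻¹ * x⁻¹ = (x * a * x⁻¹)⁻¹ := by group
      rw [e]; exact this
  have hNbot : N = ⊥ := hA.hcore N hNT hNH hNx
  have hsq : ∀ q ∈ Q, q * q = 1 := by
    intro q hq
    have := hQsqN q hq
    rw [hNbot, Subgroup.mem_bot] at this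
    exact this
  have hsq' : ∀ q ∈ cj x Q, q * q = 1 := by
    intro q hq
    have := hQ'sqN q hq
    rw [hNbot, Subgroup.mem_bot] at this
    exact this
  have hab : ∀ a ∈ Q, ∀ b ∈ Q, a * b = b * a := fun a ha b hb =>
    comm_of_sq_eq_one a b (hsq a ha) (hsq b hb) (hsq _ (Q.mul_mem ha hb))
  have hab' : ∀ a ∈ cj x Q, ∀ b ∈ cj x Q, a * b = b * a := fun a ha b hb =>
    comm_of_sq_eq_one a b (hsq' a ha) (hsq' b hb) (hsq' _ ((cj x Q).mul_mem ha hb))
  have hprod : ∀ t ∈ T, ∃ a ∈ Q, ∃ b ∈ cj x Q, t = a * b := by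
    intro t ht
    by_cases h : t ∈ cj x Q
    · exact ⟨1, Q.one_mem, t, h, (one_mul t).symm⟩
    · refine ⟨a₀, ha₀Q, a₀ * t, hmulQ' a₀ ha₀T t ht ha₀Q' h, ?_⟩
      rw [← mul_assoc, ha₀sq, one_mul]
  have hcentral : ∀ d ∈ Q ⊓ cj x Q, ∀ t ∈ T, d * t = t * d := by
    intro d hd t ht
    obtain ⟨a, ha, b, hb, rfl⟩ := hprod t ht
    have h1 := hab d hd.1 a ha
    have h2 := hab' d hd.2 b hb
    calc d * (a * b) = (d * a) * b := by group
      _ = (a * d) * b := by rw [h1]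
      _ = a * (d * b) := by group
      _ = a * (b * d) := by rw [h2]
      _ = a * b * d := by group
  have hcard : Nat.card ↥(Q ⊓ cj x Q) ≤ 4 := by
    obtain ⟨t₀, ht₀T, ht₀Q⟩ := hZF.exists_TQ
    have hw2 : w * w = 1 := hZF.sq w hL.w_mem
    have hsub : ((Q ⊓ cj x Q : Subgroup G) : Set G) ⊆
        (Cs H T : Set G) ∪ (fun c => c * w) '' (Cs H T : Set G) := by
      intro d hd
      have hdZ : d ∈ Zs H T := hZF.gen d (hA.hQT hd.1) (hsq d hd.1)
        (fun t ht => hcentral d hd t ht)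
      rcases hL.fix_T t₀ ht₀T ht₀Q d hdZ (hcentral d hd t₀ ht₀T).symm with h | h
      · exact Or.inl h
      · refine Or.inr ⟨d * w, h, ?_⟩
        show d * w * w = d
        rw [mul_assoc, hw2, mul_one]
    have e1 : Nat.card ↥(Q ⊓ cj x Q) = Set.ncard ((Q ⊓ cj x Q : Subgroup G) : Set G) :=
      Nat.card_coe_set_eq _
    have e2 : Nat.card ↥(Cs H T) = Set.ncard (Cs H T : Set G) := Nat.card_coe_set_eq _
    have h3 := hC3.card
    rw [e2] at h3
    rw [e1]
    calc Set.ncard ((Q ⊓ cj x Q : Subgroup G) : Set G)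
        ≤ Set.ncard ((Cs H T : Set G) ∪ (fun c => c * w) '' (Cs H T : Set G)) :=
          Set.ncard_le_ncard hsub (Set.toFinite _)
      _ ≤ Set.ncard (Cs H T : Set G) + Set.ncard ((fun c => c * w) '' (Cs H T : Set G)) :=
          Set.ncard_union_le _ _
      _ ≤ Set.ncard (Cs H T : Set G) + Set.ncard (Cs H T : Set G) :=
          Nat.add_le_add_left (Set.ncard_image_le (Set.toFinite _)) _
      _ ≤ 4 := by omega
  refine ⟨hsq, hprod, hcentral, hcard, ?_⟩
  intro g hg hgQ hgQ' hgg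
  obtain ⟨a, ha, b, hb, rfl⟩ := hprod g hg
  have haQ' : a ∉ cj x Q := fun h => hgQ' ((cj x Q).mul_mem h hb)
  have hbQ : b ∉ Q := fun h => hgQ (Q.mul_mem ha h)
  have hcomm : a * b = b * a := comm_of_sq_eq_one a b (hsq a ha) (hsq' b hb) hgg
  have hacent : ∀ q ∈ cj x Q, a * q = q * a := by
    intro q hq
    by_cases h : q ∈ Q
    · exact hab a ha q h
    · have hbq : b * q ∈ Q := hZF.mul_Q b (hQ'T hb) q (hQ'T hq) hbQ h
      have hq' : q = b * (b * q) := by rw [← mul_assoc, hsq' b hb, one_mul]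
      have h1 := hab a ha (b * q) hbq
      rw [hq']
      calc a * (b * (b * q)) = (a * b) * (b * q) := by group
        _ = (b * a) * (b * q) := by rw [hcomm]
        _ = b * (a * (b * q)) := by group
        _ = b * ((b * q) * a) := by rw [h1]
        _ = b * (b * q) * a := by group
  have ha' : x⁻¹ * a * x ∈ Q := by
    refine hA.hCQ _ (hA.hTH (hA.xinv_mem (hA.hQT ha))) ?_
    intro q hq
    have h1 := hacent (x * q * x⁻¹) (conj_mem_cj hq)
    calc x⁻¹ * a * x * q = x⁻¹ * (a * (x * q * x⁻¹)) * x := by group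
      _ = x⁻¹ * ((x * q * x⁻¹) * a) * x := by rw [h1]
      _ = q * (x⁻¹ * a * x) := by group
  exact haQ' (mem_cj.mpr ha')

end Cfsg.Agent.Lib.Helper96.Sym
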